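import Mathlib

/-!
# The monomial Sylow subgroup of `GL(p, q)`
-/

namespace Cfsg.Agent.MonomialSylow

open Matrix Polynomial

variable {F : Type*} [Field F] {p : ℕ} [hp : Fact p.Prime]

/-- The monomial matrix with entries `d` on the diagonal shifted by `i`. -/
def mon (d : ZMod p → F) (i : ZMod p) : Matrix (ZMod p) (ZMod p) F :=
  fun j k => if k = j + i then d j else 0

theorem mon_mul (d e : ZMod p → F) (i l : ZMod p) :
    mon d i * mon e l = mon (fun j => d j * e (j + i)) (i + l) := by
  ext a b
  rw [Matrix.mul_apply, Finset.sum_eq_single (a + i)]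
  · simp only [mon, ↓reduceIte]
    rw [add_assoc]
    split <;> simp
  · intro k _ hk
    simp [mon, hk]
  · simp

theorem mon_one : mon (fun _ => (1 : F)) (0 : ZMod p) = 1 := by
  ext a b
  simp [mon, Matrix.one_apply, eq_comm]

theorem mon_diag (d : ZMod p → F) : mon d 0 = Matrix.diagonal d := by
  ext a b
  simp [mon, Matrix.diagonal_apply, eq_comm]

theorem mon_inj {d e : ZMod p → F} {i l : ZMod p} (hd : ∀ j, d j ≠ 0) (h : mon d i = mon e l) :
    i = l ∧ d = e := by
  have h' : ∀ j, j + i = j + l ∧ d j = e j := fun j => by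
    have := congrFun (congrFun h j) (j + i)
    simp only [mon, if_pos rfl] at this
    by_cases hc : j + i = j + l
    · exact ⟨hc, by rwa [if_pos hc] at this⟩
    · exact absurd (by rwa [if_neg hc] at this) (hd j)
  exact ⟨add_left_cancel (h' 0).1, funext fun j => (h' j).2⟩

theorem ne_zero_of_pow_eq_one {a : F} (h : a ^ p = 1) : a ≠ 0 := by
  rintro rfl
  rw [zero_pow hp.out.ne_zero] at h
  exact zero_ne_one h

/-- The unit of a monomial matrix. -/
def monUnit (d : ZMod p → F) (i : ZMod p) (hd : ∀ j, d j ^ p = 1) : GL (ZMod p) F where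
  val := mon d i
  inv := mon (fun j => (d (j - i))⁻¹) (-i)
  val_inv := by
    rw [mon_mul, add_neg_cancel]
    convert mon_one (F := F) (p := p) using 2
    funext j
    rw [add_sub_cancel_right, mul_inv_cancel₀ (ne_zero_of_pow_eq_one (hd j))]
  inv_val := by
    rw [mon_mul, neg_add_cancel]
    convert mon_one (F := F) (p := p) using 2
    funext j
    rw [← sub_eq_add_neg, inv_mul_cancel₀ (ne_zero_of_pow_eq_one (hd (j - i)))]

variable [Fintype F]

/-- The monomial `p`-subgroup. -/
def Q : Subgroup (GL (ZMod p) F) where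
  carrier := {A | ∃ d i, (∀ j, d j ^ p = 1) ∧ (A : Matrix (ZMod p) (ZMod p) F) = mon d i}
  one_mem' := ⟨fun _ => 1, 0, fun _ => one_pow p, by rw [mon_one]; rfl⟩
  mul_mem' := by
    rintro A B ⟨d, i, hd, hA⟩ ⟨e, l, he, hB⟩
    exact ⟨fun j => d j * e (j + i), i + l, fun j => by rw [mul_pow, hd, he, one_mul],
      by rw [Units.val_mul, hA, hB, mon_mul]⟩
  inv_mem' := by
    rintro A ⟨d, i, hd, hA⟩
    refine ⟨fun j => (d (j - i))⁻¹, -i, fun j => by rw [inv_pow, hd, inv_one], ?_⟩
    rw [show A = monUnit d i hd from Units.ext hA]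
    rfl

theorem monUnit_mem (d : ZMod p → F) (i : ZMod p) (hd : ∀ j, d j ^ p = 1) :
    monUnit d i hd ∈ (Q : Subgroup (GL (ZMod p) F)) := ⟨d, i, hd, rfl⟩

theorem exists_root (h1 : p ∣ Fintype.card F - 1) : ∃ z : F, IsPrimitiveRoot z p := by
  classical
  have hd : p ∣ Nat.card Fˣ := by rwa [Nat.card_eq_fintype_card, Fintype.card_units]
  obtain ⟨u, hu⟩ := exists_prime_orderOf_dvd_card' (G := Fˣ) p hd
  exact ⟨u, by rw [← hu, ← orderOf_units]; exact IsPrimitiveRoot.orderOf _⟩

theorem card_mu (h1 : p ∣ Fintype.card F - 1) : Nat.card {a : F // a ^ p = 1} = p := by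
  obtain ⟨z, hz⟩ := exists_root h1
  let f : Fin p → {a : F // a ^ p = 1} := fun k => ⟨z ^ k.val, by
    rw [← pow_mul, mul_comm, pow_mul, hz.pow_eq_one, one_pow]⟩
  have hf : Function.Bijective f := ⟨fun a b h => Fin.ext (hz.pow_inj a.2 b.2 (congrArg Subtype.val h)),
    fun a => by
      have : NeZero p := ⟨hp.out.ne_zero⟩
      obtain ⟨i, hi, hia⟩ := hz.eq_pow_of_pow_eq_one a.2
      exact ⟨⟨i, hi⟩, Subtype.ext hia⟩⟩
  rw [← Nat.card_congr (Equiv.ofBijective f hf), Nat.card_fin]

theorem card_Q (h1 : p ∣ Fintype.card F - 1) :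
    Nat.card (Q : Subgroup (GL (ZMod p) F)) = p ^ (p + 1) := by
  let f : (ZMod p → {a : F // a ^ p = 1}) × ZMod p → (Q : Subgroup (GL (ZMod p) F)) := fun x =>
    ⟨monUnit (fun j => (x.1 j : F)) x.2 fun j => (x.1 j).2, monUnit_mem _ _ _⟩
  have hf : Function.Bijective f := by
    refine ⟨fun x y h => ?_, ?_⟩
    · obtain ⟨h2, h3⟩ := mon_inj (fun j => ne_zero_of_pow_eq_one (x.1 j).2)
        (congrArg (fun A : (Q : Subgroup (GL (ZMod p) F)) => ((A : GL (ZMod p) F) : Matrix (ZMod p) (ZMod p) F)) h)
      exact Prod.ext (funext fun j => Subtype.ext (congrFun h3 j)) h2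
    · rintro ⟨A, d, i, hd, hA⟩
      exact ⟨(fun j => ⟨d j, hd j⟩, i), Subtype.ext (Units.ext hA.symm)⟩
  rw [← Nat.card_congr (Equiv.ofBijective f hf), Nat.card_prod, Nat.card_fun, card_mu h1, Nat.card_zmod,
    pow_succ]

omit [Fintype F] in
/-- A function on `ZMod p` invariant under a nonzero shift is constant. -/
theorem const_of_shift {r : ZMod p → F} {l : ZMod p} (hl : l ≠ 0) (h : ∀ j, r (j + l) = r j)
    (j : ZMod p) : r j = r 0 := by
  have hn : ∀ n : ℕ, r ((n : ZMod p) * l) = r 0 := by
    intro n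
    induction n with
    | zero => simp
    | succ n ih => rw [Nat.cast_succ, add_mul, one_mul, h, ih]
  have := hn (j * l⁻¹).val
  rwa [ZMod.natCast_zmod_val, mul_assoc, inv_mul_cancel₀ hl, mul_one] at this

/-- An element normalizing `Q` is monomial. -/
theorem monomial_of_normalizes (h1 : p ∣ Fintype.card F - 1) (h3 : 3 ≤ p) (g : GL (ZMod p) F)
    (hg : ∀ A ∈ (Q : Subgroup (GL (ZMod p) F)), g * A * g⁻¹ ∈ (Q : Subgroup (GL (ZMod p) F)))
    (a b c : ZMod p) (hb : (g : Matrix (ZMod p) (ZMod p) F) a b ≠ 0)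
    (hc : (g : Matrix (ZMod p) (ZMod p) F) a c ≠ 0) : b = c := by
  classical
  let M := ZMod p → {x : F // x ^ p = 1}
  have himg : ∀ x : M, ∃ (e : ZMod p → F) (l : ZMod p), (∀ j, e j ^ p = 1) ∧
      ((g * monUnit (fun j => (x j : F)) 0 (fun j => (x j).2) * g⁻¹ : GL (ZMod p) F) :
        Matrix (ZMod p) (ZMod p) F) = mon e l :=
    fun x => hg _ (monUnit_mem _ _ _)
  choose e l he heq using himg
  have hcomm : ∀ x y : M, mon (e x) (l x) * mon (e y) (l y) = mon (e y) (l y) * mon (e x) (l x) := by
    intro x y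
    rw [← heq, ← heq, ← Units.val_mul, ← Units.val_mul]
    congr 1
    have : monUnit (fun j => (x j : F)) 0 (fun j => (x j).2) * monUnit (fun j => (y j : F)) 0 (fun j => (y j).2) =
        monUnit (fun j => (y j : F)) 0 (fun j => (y j).2) * monUnit (fun j => (x j : F)) 0 (fun j => (x j).2) := by
      refine Units.ext ?_
      show mon _ _ * mon _ _ = mon _ _ * mon _ _
      rw [mon_mul, mon_mul]
      congr 1
      funext j
      rw [add_zero, mul_comm]
    calc g * monUnit (fun j => (x j : F)) 0 (fun j => (x j).2) * g⁻¹ *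
          (g * monUnit (fun j => (y j : F)) 0 (fun j => (y j).2) * g⁻¹)
        = g * (monUnit (fun j => (x j : F)) 0 (fun j => (x j).2) *
          monUnit (fun j => (y j : F)) 0 (fun j => (y j).2)) * g⁻¹ := by group
      _ = _ := by rw [this]; group
  have hzero : ∀ x : M, l x = 0 := by
    intro x
    by_contra hl
    let f : M → ZMod p × {x : F // x ^ p = 1} := fun y => (l y, ⟨e y 0, he y 0⟩)
    have hf : Function.Injective f := by
      intro y y' hyy
      obtain ⟨hl', he0⟩ := Prod.ext_iff.1 hyy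
      have hl'' : l y = l y' := hl'
      have he0' : e y 0 = e y' 0 := congrArg Subtype.val he0
      have k : ∀ z : M, ∀ j, e x j * e z (j + l x) = e z j * e x (j + l z) := by
        intro z j
        have := hcomm x z
        rw [mon_mul, mon_mul] at this
        exact congrFun (mon_inj (fun j => mul_ne_zero (ne_zero_of_pow_eq_one (he x j))
          (ne_zero_of_pow_eq_one (he z _))) this).2 j
      have hr : ∀ j, e y (j + l x) / e y' (j + l x) = e y j / e y' j := by
        intro j
        have h₁ := k y j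
        have h₂ := k y' j
        rw [← hl''] at h₂
        rw [div_eq_div_iff (ne_zero_of_pow_eq_one (he y' _)) (ne_zero_of_pow_eq_one (he y' j))]
        refine mul_left_cancel₀ (ne_zero_of_pow_eq_one (he x j)) ?_
        calc e x j * (e y (j + l x) * e y' j) = e x j * e y (j + l x) * e y' j := by ring
          _ = e y j * e x (j + l y) * e y' j := by rw [h₁]
          _ = e y j * (e y' j * e x (j + l y)) := by ring
          _ = e y j * (e x j * e y' (j + l x)) := by rw [h₂]
          _ = _ := by ring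
      have hee : e y = e y' := funext fun j => by
        have := const_of_shift (r := fun j => e y j / e y' j) hl hr j
        simp only [he0', div_self (ne_zero_of_pow_eq_one (he y' 0))] at this
        exact (div_eq_one_iff_eq (ne_zero_of_pow_eq_one (he y' j))).1 this
      have h4 := heq y
      rw [hee, hl'', ← heq y'] at h4
      have h5 : monUnit (fun j => (y j : F)) 0 (fun j => (y j).2) = monUnit (fun j => (y' j : F)) 0 (fun j => (y' j).2) :=
        mul_left_cancel (mul_right_cancel (Units.ext h4))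
      exact funext fun j => Subtype.ext (congrFun (mon_inj (fun j => ne_zero_of_pow_eq_one (y j).2)
        (congrArg (fun A : GL (ZMod p) F => (A : Matrix (ZMod p) (ZMod p) F)) h5)).2 j)
    have h4 := Nat.card_le_card_of_injective f hf
    rw [Nat.card_fun, Nat.card_prod, card_mu h1, Nat.card_zmod, ← sq] at h4
    exact absurd ((Nat.pow_le_pow_iff_right hp.out.one_lt).1 h4) (by omega)
  obtain ⟨z, hz⟩ := exists_root h1
  let x : M := fun j => if j = b then ⟨z, hz.pow_eq_one⟩ else ⟨1, one_pow p⟩
  have h5 : (g : Matrix (ZMod p) (ZMod p) F) * mon (fun j => (x j : F)) 0 =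
      mon (e x) 0 * (g : Matrix (ZMod p) (ZMod p) F) := by
    have h6 := heq x
    rw [hzero x] at h6
    calc (g : Matrix (ZMod p) (ZMod p) F) * mon (fun j => (x j : F)) 0
        = ((g * monUnit (fun j => (x j : F)) 0 (fun j => (x j).2) * g⁻¹ * g : GL (ZMod p) F) :
            Matrix (ZMod p) (ZMod p) F) := by rw [inv_mul_cancel_right]; rfl
      _ = _ := by rw [Units.val_mul, h6]
  rw [mon_diag, mon_diag] at h5
  have eb := congrFun (congrFun h5 a) b
  have ec := congrFun (congrFun h5 a) c
  rw [Matrix.mul_diagonal, Matrix.diagonal_mul, mul_comm (e x a)] at eb ec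
  by_contra hbc
  have : (x b : F) = x c := by rw [mul_left_cancel₀ hb eb, mul_left_cancel₀ hc ec]
  simp only [x, if_neg (Ne.symm hbc), if_pos] at this
  exact hz.ne_one hp.out.one_lt this

/-- An irreducible quadratic coprime to `X ^ p ^ k - 1`. -/
theorem exists_quadratic (hp2 : p ≠ 2) (h1 : p ∣ Fintype.card F - 1) (k : ℕ) :
    ∃ c : F, c ≠ 0 ∧ IsCoprime (X ^ 2 + X + C c : F[X]) (X ^ p ^ k - 1) := by
  classical
  obtain ⟨c, hc⟩ : ∃ c : F, ∀ a : F, a ^ 2 + a + c ≠ 0 := by
    by_contra hall
    push Not at hall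
    have hs : Function.Surjective fun a : F => a ^ 2 + a := fun y => by
      obtain ⟨a, ha⟩ := hall (-y)
      exact ⟨a, by linear_combination ha⟩
    have hi := (Finite.injective_iff_surjective.2 hs) (a₁ := 0) (a₂ := -1) (by ring)
    exact one_ne_zero (neg_eq_zero.1 hi.symm : (1 : F) = 0)
  refine ⟨c, fun h => hc 0 (by rw [h]; ring), ?_⟩
  set f : F[X] := X ^ 2 + X + C c with hf
  have hdeg : f.natDegree = 2 := by rw [hf]; compute_degree!
  have hirr : Irreducible f := (Polynomial.irreducible_iff_roots_eq_zero_of_degree_le_three (by omega) (by omega)).2 (by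
    rw [Multiset.eq_zero_iff_forall_notMem]
    intro a ha
    have := (Polynomial.mem_roots'.1 ha).2
    simp only [f, Polynomial.IsRoot, eval_add, eval_pow, eval_X, eval_C] at this
    exact hc a this)
  refine hirr.coprime_iff_not_dvd.2 fun hd => ?_
  have : Fact (Irreducible f) := ⟨hirr⟩
  have hf0 : f ≠ 0 := hirr.ne_zero
  let pb := AdjoinRoot.powerBasis hf0
  have hcardK : Nat.card (AdjoinRoot f) = Fintype.card F ^ 2 := by
    have : Module.Finite F (AdjoinRoot f) := pb.finite
    rw [Module.natCard_eq_pow_finrank (K := F), pb.finrank, Nat.card_eq_fintype_card,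
      AdjoinRoot.powerBasis_dim, hdeg]
  have : Finite (AdjoinRoot f) := Nat.finite_of_card_ne_zero (by rw [hcardK]; positivity)
  have := Fintype.ofFinite (AdjoinRoot f)
  set r := AdjoinRoot.root f with hr
  have hrN : r ^ p ^ k = 1 := by
    have := AdjoinRoot.mk_eq_zero.2 hd
    simp only [map_sub, map_pow, AdjoinRoot.mk_X, map_one] at this
    exact sub_eq_zero.1 this
  have hr0 : r ≠ 0 := fun h => by
    rw [h, zero_pow (pow_ne_zero _ hp.out.ne_zero)] at hrN
    exact zero_ne_one hrN
  have hrq : r ^ (Fintype.card F ^ 2 - 1) = 1 := by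
    rw [← hcardK, Nat.card_eq_fintype_card]
    exact FiniteField.pow_card_sub_one_eq_one r hr0
  have hg := pow_gcd_eq_one.2 ⟨hrN, hrq⟩
  have hdvd : Nat.gcd (p ^ k) (Fintype.card F ^ 2 - 1) ∣ Fintype.card F - 1 := by
    obtain ⟨i, -, hi⟩ := (Nat.dvd_prime_pow hp.out).1 (Nat.gcd_dvd_left (p ^ k) (Fintype.card F ^ 2 - 1))
    have h2 := Nat.gcd_dvd_right (p ^ k) (Fintype.card F ^ 2 - 1)
    rw [hi] at h2 ⊢
    rw [show Fintype.card F ^ 2 - 1 = (Fintype.card F + 1) * (Fintype.card F - 1) by
      rw [← Nat.sq_sub_sq, one_pow]] at h2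
    refine ((hp.out.coprime_iff_not_dvd.2 fun h => ?_).pow_left i).dvd_of_dvd_mul_left h2
    have hq : 1 ≤ Fintype.card F := Fintype.card_pos
    have h3 : p ∣ (Fintype.card F + 1) - (Fintype.card F - 1) := Nat.dvd_sub h h1
    rw [show Fintype.card F + 1 - (Fintype.card F - 1) = 2 by omega] at h3
    exact hp2 ((Nat.prime_dvd_prime_iff_eq hp.out Nat.prime_two).1 h3)
  have hrF : r ^ Fintype.card F = r := by
    obtain ⟨m, hm⟩ := hdvd
    calc r ^ Fintype.card F = r ^ (Fintype.card F - 1 + 1) := by rw [Nat.sub_add_cancel Fintype.card_pos]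
      _ = r := by rw [pow_succ, hm, pow_mul, hg, one_pow, one_mul]
  let P : (AdjoinRoot f)[X] := X ^ Fintype.card F - X
  have hP : P ≠ 0 := FiniteField.X_pow_card_sub_X_ne_zero _ Fintype.one_lt_card
  have hsub : insert r (Finset.univ.image (algebraMap F (AdjoinRoot f))) ⊆ P.roots.toFinset := by
    intro y hy
    rw [Multiset.mem_toFinset, Polynomial.mem_roots hP]
    rcases Finset.mem_insert.1 hy with rfl | hy
    · simp [P, hrF]
    · obtain ⟨a, -, rfl⟩ := Finset.mem_image.1 hy
      simp [P, ← map_pow, FiniteField.pow_card]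
  have hle := (Finset.card_le_card hsub).trans ((Multiset.toFinset_card_le _).trans (Polynomial.card_roots' P))
  rw [FiniteField.X_pow_card_sub_X_natDegree_eq _ Fintype.one_lt_card, Finset.card_insert_of_notMem,
    Finset.card_image_of_injective _ (algebraMap F (AdjoinRoot f)).injective, Finset.card_univ] at hle
  · omega
  intro hmem
  obtain ⟨a, -, ha⟩ := Finset.mem_image.1 hmem
  have h0 : f.eval a = 0 := by
    refine (algebraMap F (AdjoinRoot f)).injective ?_
    rw [map_zero, ← Polynomial.aeval_algebraMap_apply_eq_algebraMap_eval, ha, hr, AdjoinRoot.aeval_eq,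
      AdjoinRoot.mk_self]
  simp only [f, eval_add, eval_pow, eval_X, eval_C] at h0
  exact hc a h0

/-- Every element of `Q` lies in another conjugate of `Q`. -/
theorem exists_other (hp2 : p ≠ 2) (h1 : p ∣ Fintype.card F - 1) (x : GL (ZMod p) F)
    (hx : x ∈ (Q : Subgroup (GL (ZMod p) F))) :
    ∃ g : GL (ZMod p) F, g⁻¹ * x * g ∈ (Q : Subgroup (GL (ZMod p) F)) ∧
      ∃ A ∈ (Q : Subgroup (GL (ZMod p) F)), g * A * g⁻¹ ∉ (Q : Subgroup (GL (ZMod p) F)) := by
  classical
  have h3 : 3 ≤ p := by have := hp.out.two_le; omega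
  suffices ∃ g : GL (ZMod p) F, g⁻¹ * x * g ∈ (Q : Subgroup (GL (ZMod p) F)) ∧ ∃ a b c, b ≠ c ∧
      (g : Matrix (ZMod p) (ZMod p) F) a b ≠ 0 ∧ (g : Matrix (ZMod p) (ZMod p) F) a c ≠ 0 by
    obtain ⟨g, hgx, a, b, c, hbc, hb, hc⟩ := this
    refine ⟨g, hgx, ?_⟩
    by_contra hall
    push Not at hall
    exact hbc (monomial_of_normalizes h1 h3 g hall a b c hb hc)
  have hxQ := hx
  obtain ⟨d, i, hd, hA⟩ := hx
  have hfix : ∀ g : GL (ZMod p) F, g * x = x * g → g⁻¹ * x * g ∈ (Q : Subgroup (GL (ZMod p) F)) := by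
    intro g hg
    rw [mul_assoc, ← hg, inv_mul_cancel_left]
    exact hxQ
  rcases eq_or_ne i 0 with rfl | hi
  · by_cases hinj : Function.Injective d
    · let V : Matrix (ZMod p) (ZMod p) F := fun j k => d j ^ k.val
      have hV : IsUnit V.det := by
        obtain ⟨n, rfl⟩ : ∃ n, p = n + 1 := ⟨p - 1, by omega⟩
        rw [isUnit_iff_ne_zero, show V = Matrix.vandermonde (fun j : Fin (n + 1) => d j) from rfl]
        exact Matrix.det_vandermonde_ne_zero_iff.2 hinj
      let g := Matrix.GeneralLinearGroup.mk'' V hV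
      refine ⟨g, ?_, 0, 0, 1, zero_ne_one, pow_ne_zero _ (ne_zero_of_pow_eq_one (hd 0)),
        pow_ne_zero _ (ne_zero_of_pow_eq_one (hd 0))⟩
      have hxg : x * g = g * monUnit (fun _ => 1) (-1) (fun _ => one_pow p) := by
        refine Units.ext ?_
        show (x : Matrix (ZMod p) (ZMod p) F) * V = V * mon (fun _ => 1) (-1)
        rw [hA, mon_diag]
        ext j k
        rw [Matrix.diagonal_mul, Matrix.mul_apply, Finset.sum_eq_single (k + 1)]
        · simp only [mon, V, add_neg_cancel_right, if_pos, mul_one]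
          rw [← pow_succ', pow_eq_pow_mod (k.val + 1) (hd j), pow_eq_pow_mod ((k + 1).val) (hd j)]
          congr 1
          rw [ZMod.val_add, ZMod.val_one, Nat.mod_mod]
        · intro l _ hl
          simp only [mon]
          rw [if_neg (fun h => hl (by rw [h, neg_add_cancel_right])), mul_zero]
        · simp
      rw [mul_assoc, hxg, inv_mul_cancel_left]
      exact monUnit_mem _ _ _
    · obtain ⟨a, b, hab, hne⟩ : ∃ a b, d a = d b ∧ a ≠ b := by
        simpa [Function.Injective] using hinj
      have hdet : IsUnit (Matrix.transvection a b (1 : F)).det := by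
        rw [Matrix.det_transvection_of_ne a b hne]; exact isUnit_one
      refine ⟨Matrix.GeneralLinearGroup.mk'' _ hdet, hfix _ (Units.ext ?_), a, a, b, hne, ?_, ?_⟩
      · show Matrix.transvection a b (1 : F) * (x : Matrix (ZMod p) (ZMod p) F) = (x : Matrix (ZMod p) (ZMod p) F) * Matrix.transvection a b (1 : F)
        rw [hA, mon_diag]
        ext j k
        rw [Matrix.diagonal_mul, Matrix.mul_diagonal]
        simp only [Matrix.transvection, Matrix.add_apply, Matrix.one_apply, Matrix.single_apply]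
        by_cases hjk : j = k
        · subst hjk; ring
        · by_cases hjab : a = j ∧ b = k
          · obtain ⟨rfl, rfl⟩ := hjab
            rw [hab]; ring
          · simp [hjk, hjab]
      · show Matrix.transvection a b (1 : F) a a ≠ 0
        simp [Matrix.transvection, Matrix.single_apply, hne.symm]
      · show Matrix.transvection a b (1 : F) a b ≠ 0
        simp [Matrix.transvection, Matrix.single_apply, hne]
  · obtain ⟨c, hc, u, v, huv⟩ := exists_quadratic hp2 h1 (p + 1)
    set M := (x : Matrix (ZMod p) (ZMod p) F) with hM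
    have hpow : M ^ p ^ (p + 1) = 1 := by
      have := congrArg (fun A : (Q : Subgroup (GL (ZMod p) F)) => ((A : GL (ZMod p) F) : Matrix (ZMod p) (ZMod p) F))
        (pow_card_eq_one' (x := (⟨x, hxQ⟩ : (Q : Subgroup (GL (ZMod p) F)))))
      rw [card_Q h1] at this
      simpa [hM] using this
    have hinv : Polynomial.aeval M u * (M ^ 2 + M + c • 1) = 1 := by
      have := congrArg (Polynomial.aeval M) huv
      simp only [map_add, map_mul, map_sub, map_pow, Polynomial.aeval_X, Polynomial.aeval_C, map_one, hpow,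
        sub_self, mul_zero, add_zero, Algebra.algebraMap_eq_smul_one] at this
      exact this
    have hdet := Matrix.isUnit_det_of_left_inverse hinv
    refine ⟨Matrix.GeneralLinearGroup.mk'' _ hdet, hfix _ (Units.ext ?_), 0, 0, i + i, ?_, ?_, ?_⟩
    · show (M ^ 2 + M + c • 1) * M = M * (M ^ 2 + M + c • 1)
      rw [add_mul, add_mul, mul_add, mul_add, smul_mul_assoc, one_mul, mul_smul_comm, mul_one, sq, mul_assoc]
    · intro h
      have h2 : (2 : ZMod p) * i = 0 := by rw [two_mul, ← h]
      rcases mul_eq_zero.1 h2 with h2 | h2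
      · have h4 : ((2 : ℕ) : ZMod p) = 0 := by exact_mod_cast h2
        rw [ZMod.natCast_eq_zero_iff] at h4
        have := Nat.le_of_dvd two_pos h4
        omega
      · exact hi h2
    · have hii : (0 : ZMod p) ≠ i + i := by
        intro h
        have h2 : (2 : ZMod p) * i = 0 := by rw [two_mul, ← h]
        rcases mul_eq_zero.1 h2 with h2 | h2
        · have h4 : ((2 : ℕ) : ZMod p) = 0 := by exact_mod_cast h2
          rw [ZMod.natCast_eq_zero_iff] at h4
          have := Nat.le_of_dvd two_pos h4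
          omega
        · exact hi h2
      show (M ^ 2 + M + c • (1 : Matrix (ZMod p) (ZMod p) F)) 0 0 ≠ 0
      rw [hA, sq, mon_mul]
      simp [mon, hii, Ne.symm hi, hc]
    · have hii : i + i ≠ i := fun h => hi (add_left_cancel (h.trans (add_zero i).symm))
      have hii0 : i + i ≠ 0 := fun h => by
        have h2 : (2 : ZMod p) * i = 0 := by rw [two_mul, h]
        rcases mul_eq_zero.1 h2 with h2 | h2
        · have h4 : ((2 : ℕ) : ZMod p) = 0 := by exact_mod_cast h2
          rw [ZMod.natCast_eq_zero_iff] at h4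
          have := Nat.le_of_dvd two_pos h4
          omega
        · exact hi h2
      show (M ^ 2 + M + c • (1 : Matrix (ZMod p) (ZMod p) F)) 0 (i + i) ≠ 0
      rw [hA, sq, mon_mul]
      simp [mon, hii, hii0.symm, ne_zero_of_pow_eq_one (hd 0), ne_zero_of_pow_eq_one (hd i)]

/-- The `p`-part of the order of `GL(p, q)`. -/
theorem factorization_card_GL (hp2 : p ≠ 2) (h1 : p ∣ Fintype.card F - 1)
    (h2 : ¬ p ^ 2 ∣ Fintype.card F - 1) :
    (Nat.card (GL (Fin p) F)).factorization p = p + 1 := by
  set q := Fintype.card F with hq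
  have hq1 : 1 < q := Fintype.one_lt_card
  have hpq : ¬ p ∣ q := fun h => by
    have := Nat.dvd_sub h h1
    rw [show q - (q - 1) = 1 by omega] at this
    exact hp.out.not_dvd_one this
  have hv1 : padicValNat p (q - 1) = 1 := by
    rw [← Nat.factorization_def _ hp.out]
    refine le_antisymm ?_ ((hp.out.pow_dvd_iff_le_factorization (by omega)).1 (by rwa [pow_one]))
    by_contra h
    exact h2 ((hp.out.pow_dvd_iff_le_factorization (by omega)).2 (by omega))
  have hterm : ∀ i : Fin p, (q ^ p - q ^ (i : ℕ)).factorization p = 1 + (p - i.val).factorization p := by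
    intro i
    have hi := i.2
    have : q ^ p - q ^ (i : ℕ) = q ^ (i : ℕ) * (q ^ (p - i.val) - 1) := by
      rw [Nat.mul_sub, ← pow_add, Nat.add_sub_cancel' hi.le, mul_one]
    rw [this, Nat.factorization_mul (by positivity)
      (Nat.sub_ne_zero_of_lt (Nat.one_lt_pow (by omega) hq1)), Finsupp.add_apply,
      Nat.factorization_eq_zero_of_not_dvd (fun h => hpq (hp.out.dvd_of_dvd_pow h)), zero_add,
      Nat.factorization_def _ hp.out, Nat.factorization_def _ hp.out]
    have h5 := padicValNat.pow_sub_pow (p := p) (x := q) (y := 1) (hp.out.odd_of_ne_two hp2) hq1 h1 hpq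
      (n := p - i.val) (by omega)
    rw [one_pow, hv1] at h5
    exact h5
  rw [Matrix.card_GL_field, Nat.factorization_prod_apply (fun i _ => Nat.sub_ne_zero_of_lt
    (Nat.pow_lt_pow_right hq1 i.2)), Finset.sum_congr rfl fun i _ => hterm i, Finset.sum_add_distrib,
    Finset.sum_const, Finset.card_univ, Fintype.card_fin, smul_eq_mul, mul_one,
    Finset.sum_eq_single (⟨0, hp.out.pos⟩ : Fin p)]
  · simp [hp.out.factorization_self]
  · intro i _ hi
    have hi' : i.val ≠ 0 := fun h => hi (Fin.ext h)
    refine Nat.factorization_eq_zero_of_lt ?_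
    have := i.2
    omega
  · simp

end Cfsg.Agent.MonomialSylow
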